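import Cfsg.Agent.Spor.Fi23A1.D0

set_option autoImplicit false
set_option maxRecDepth 100000000
set_option Elab.async false

namespace Cfsg.Agent.Spor.Fi23A1

theorem ok0 : Net.okb 1 n0 = true := by decide +kernel

theorem ok1 : Net.okb 1 n1 = true := by decide +kernel

theorem ok2 : Net.okb 1 n2 = true := by decide +kernel

theorem ok3 : Net.okb 1 n3 = true := by decide +kernel

theorem ok4 : Net.okb 1 n4 = true := by decide +kernel

theorem ok5 : Net.okb 1 n5 = true := by decide +kernel

theorem ok6 : Net.okb 1 n6 = true := by decide +kernel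

theorem ok7 : Net.okb 1 n7 = true := by decide +kernel

theorem ok8 : Net.okb 1 n8 = true := by decide +kernel

theorem ok9 : Net.okb 1 n9 = true := by decide +kernel

theorem rel0 : T.rel 1 [1, 1] 0 1 = true := by decide +kernel

theorem rel1 : T.rel 1 [2, 2] 0 1 = true := by decide +kernel

theorem rel2 : T.rel 1 [3, 3] 0 1 = true := by decide +kernel

theorem rel3 : T.rel 1 [4, 4] 0 1 = true := by decide +kernel

theorem rel4 : T.rel 1 [5, 5] 0 1 = true := by decide +kernel

theorem rel5 : T.rel 1 [6, 6] 0 1 = true := by decide +kernel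

theorem rel6 : T.rel 1 [7, 7] 0 1 = true := by decide +kernel

theorem rel7 : T.rel 1 [8, 8] 0 1 = true := by decide +kernel

theorem rel8 : T.rel 1 [9, 9] 0 1 = true := by decide +kernel

theorem rel9 : T.rel 1 [10, 10] 0 1 = true := by decide +kernel

theorem rel10 : T.rel 1 [2, 1, 2, 1, 2, 1] 0 1 = true := by decide +kernel

theorem rel11 : T.rel 1 [3, 1, 3, 1] 0 1 = true := by decide +kernel

theorem rel12 : T.rel 1 [4, 1, 4, 1] 0 1 = true := by decide +kernel

theorem rel13 : T.rel 1 [5, 1, 5, 1] 0 1 = true := by decide +kernel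

theorem rel14 : T.rel 1 [6, 1, 6, 1] 0 1 = true := by decide +kernel

theorem rel15 : T.rel 1 [7, 1, 7, 1] 0 1 = true := by decide +kernel

theorem rel16 : T.rel 1 [8, 1, 8, 1] 0 1 = true := by decide +kernel

theorem rel17 : T.rel 1 [9, 1, 9, 1] 0 1 = true := by decide +kernel

theorem rel18 : T.rel 1 [10, 1, 10, 1] 0 1 = true := by decide +kernel

theorem rel19 : T.rel 1 [3, 2, 3, 2, 3, 2] 0 1 = true := by decide +kernel

theorem rel20 : T.rel 1 [4, 2, 4, 2] 0 1 = true := by decide +kernel

theorem rel21 : T.rel 1 [5, 2, 5, 2] 0 1 = true := by decide +kernel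

theorem rel22 : T.rel 1 [6, 2, 6, 2] 0 1 = true := by decide +kernel

theorem rel23 : T.rel 1 [7, 2, 7, 2] 0 1 = true := by decide +kernel

theorem rel24 : T.rel 1 [8, 2, 8, 2] 0 1 = true := by decide +kernel

theorem rel25 : T.rel 1 [9, 2, 9, 2] 0 1 = true := by decide +kernel

theorem rel26 : T.rel 1 [10, 2, 10, 2] 0 1 = true := by decide +kernel

theorem rel27 : T.rel 1 [4, 3, 4, 3, 4, 3] 0 1 = true := by decide +kernel

theorem rel28 : T.rel 1 [5, 3, 5, 3] 0 1 = true := by decide +kernel

theorem rel29 : T.rel 1 [6, 3, 6, 3] 0 1 = true := by decide +kernel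

theorem rel30 : T.rel 1 [7, 3, 7, 3] 0 1 = true := by decide +kernel

theorem rel31 : T.rel 1 [8, 3, 8, 3] 0 1 = true := by decide +kernel

theorem rel32 : T.rel 1 [9, 3, 9, 3] 0 1 = true := by decide +kernel

theorem rel33 : T.rel 1 [10, 3, 10, 3] 0 1 = true := by decide +kernel

theorem rel34 : T.rel 1 [5, 4, 5, 4, 5, 4] 0 1 = true := by decide +kernel

theorem rel35 : T.rel 1 [6, 4, 6, 4] 0 1 = true := by decide +kernel

theorem rel36 : T.rel 1 [7, 4, 7, 4] 0 1 = true := by decide +kernel

theorem rel37 : T.rel 1 [8, 4, 8, 4, 8, 4] 0 1 = true := by decide +kernel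

theorem rel38 : T.rel 1 [9, 4, 9, 4] 0 1 = true := by decide +kernel

theorem rel39 : T.rel 1 [10, 4, 10, 4] 0 1 = true := by decide +kernel

theorem rel40 : T.rel 1 [6, 5, 6, 5, 6, 5] 0 1 = true := by decide +kernel

theorem rel41 : T.rel 1 [7, 5, 7, 5] 0 1 = true := by decide +kernel

theorem rel42 : T.rel 1 [8, 5, 8, 5] 0 1 = true := by decide +kernel

theorem rel43 : T.rel 1 [9, 5, 9, 5] 0 1 = true := by decide +kernel

theorem rel44 : T.rel 1 [10, 5, 10, 5] 0 1 = true := by decide +kernel

theorem rel45 : T.rel 1 [7, 6, 7, 6, 7, 6] 0 1 = true := by decide +kernel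

theorem rel46 : T.rel 1 [8, 6, 8, 6] 0 1 = true := by decide +kernel

theorem rel47 : T.rel 1 [9, 6, 9, 6] 0 1 = true := by decide +kernel

theorem rel48 : T.rel 1 [10, 6, 10, 6] 0 1 = true := by decide +kernel

theorem rel49 : T.rel 1 [8, 7, 8, 7] 0 1 = true := by decide +kernel

theorem rel50 : T.rel 1 [9, 7, 9, 7] 0 1 = true := by decide +kernel

theorem rel51 : T.rel 1 [10, 7, 10, 7, 10, 7] 0 1 = true := by decide +kernel

theorem rel52 : T.rel 1 [9, 8, 9, 8, 9, 8] 0 1 = true := by decide +kernel

theorem rel53 : T.rel 1 [10, 8, 10, 8] 0 1 = true := by decide +kernel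

theorem rel54 : T.rel 1 [10, 9, 10, 9] 0 1 = true := by decide +kernel

theorem rel55 : T.rel 1 [9, 8, 4, 6, 5, 4, 2, 3, 4, 9, 8, 4, 6, 5, 4, 2, 3, 4, 9, 8, 4, 6, 5, 4, 2, 3, 4, 9, 8, 4, 6, 5, 4, 2, 3, 4, 9, 8, 4, 6, 5, 4, 2, 3, 4, 9, 8, 4, 6, 5, 4, 2, 3, 4, 9, 8, 4, 6, 5, 4, 2, 3, 4, 9, 8, 4, 6, 5, 4, 2, 3, 4, 9, 8, 4, 6, 5, 4, 2, 3, 4, 9, 8, 4, 6, 5, 4, 2, 3, 4] 0 1 = true := by decide +kernel

theorem rel56 : T.rel 1 [8, 6, 5, 4, 3, 2, 1, 8, 6, 5, 4, 3, 2, 1, 8, 6, 5, 4, 3, 2, 1, 8, 6, 5, 4, 3, 2, 1, 8, 6, 5, 4, 3, 2, 1, 8, 6, 5, 4, 3, 2, 1, 8, 6, 5, 4, 3, 2, 1, 8, 6, 5, 4, 3, 2, 1, 8, 6, 5, 4, 3, 2, 1] 0 1 = true := by decide +kernel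

theorem rel57 : T.rel 1 [2, 1, 2, 1] 0 1 = true := by decide +kernel

theorem rel58 : T.rel 1 [3, 2, 3, 2] 0 1 = true := by decide +kernel

theorem rel59 : T.rel 1 [4, 3, 4, 3] 0 1 = true := by decide +kernel

theorem rel60 : T.rel 1 [5, 4, 5, 4] 0 1 = true := by decide +kernel

theorem rel61 : T.rel 1 [8, 4, 8, 4] 0 1 = true := by decide +kernel

theorem rel62 : T.rel 1 [6, 5, 6, 5] 0 1 = true := by decide +kernel

theorem rel63 : T.rel 1 [7, 6, 7, 6] 0 1 = true := by decide +kernel

theorem rel64 : T.rel 1 [10, 7, 10, 7] 0 1 = true := by decide +kernel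

theorem rel65 : T.rel 1 [9, 8, 9, 8] 0 1 = true := by decide +kernel

theorem hcov : T.treeCov (ones 1) L 1 = true := by decide +kernel

theorem hg : lall (fun z => band (memL L z) (band (sub (ones 1) (T.let z).cl) (T.closed (ones 1) z))) gs = true := by decide +kernel

theorem hivk : ivOk (2 * 10) EX IV = true := by decide +kernel

theorem hrt : RT.ok (2 * 10) EX RL = true := by decide +kernel

theorem hdefs : defs F 22 = true := by decide +kernel

noncomputable def st0_l : List Nat := [nat_lit 0xe0000100000003, nat_lit 0x78000b40000200003000078000b406, nat_lit 0xe0001780000403, nat_lit 0x180000b402, nat_lit 0x100000200000003, nat_lit 0x4000198000d003, nat_lit 0x1a8000c80000a000370001a8000c806, nat_lit 0x110001c80000003, nat_lit 0x1d00001002, nat_lit 0x120000300000003, nat_lit 0x60001e0000f803, nat_lit 0x1f8000f40000e000410001f8000f406, nat_lit 0x130002180000003, nat_lit 0x2200001802, nat_lit 0x140000400000003, nat_lit 0x80002300012003, nat_lit 0x2480011c000120004b0002480011c06, nat_lit 0x150002680000003,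 nat_lit 0x2700002002, nat_lit 0x160000500000003, nat_lit 0xa0002800014803, nat_lit 0x2980014400016000550002980014406, nat_lit 0x170002b80000003, nat_lit 0x2c00002802, nat_lit 0x180000600000003, nat_lit 0xc0002300017003, nat_lit 0x2e80011c0001a0005f0002e80011c06, nat_lit 0x190003080000003, nat_lit 0x3100003002, nat_lit 0x190000f00008e000500002d80019000002000330001e800118000a20005a00032800000000640003c00023800140000b600064000008000cc0007a0004600028800168000ca00000000190000f00008e000500002d80019000002000330001e800118000a20005a00032800000000640003c00023800140000b600064000008000cc0007a0004600028800168000ca00000000190000f00008e000500002d8001903f, nat_lit 0x80019c02, nat_lit 0x1a0003480006c03, nat_lit 0x35000068000d00001b0003500006806, nat_lit 0xd8001b402, nat_lit 0x1c0003780007403, nat_lit 0x38000070000dc0001d0003800007006, nat_lit 0xe8001cc02, nat_lit 0x1e0003a80007c03, nat_lit 0x3b000078000e80001f0003b00007806, nat_lit 0xf8001e402, nat_lit 0x200003d80008403, nat_lit 0x3e000080000f4000210003e00008006, nat_lit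 0x108001fc02, nat_lit 0x220004080008c03, nat_lit 0x4100008800100000230004100008806, nat_lit 0x1180021402, nat_lit 0x240004380009403, nat_lit 0x440000900010c000250004400009006, nat_lit 0x1280022c02, nat_lit 0x260003d80009c03, nat_lit 0x47000098000f4000270004700009806, nat_lit 0x1380024402, nat_lit 0x28000498000a403, nat_lit 0x4a0000a000124000290004a0000a006, nat_lit 0x1480025c02, nat_lit 0x2a000468000ac03, nat_lit 0x4d0000a8001180002b0004d0000a806, nat_lit 0x1580027402]
theorem st0 : band (steps F IV RT base st0_l 22) (Nat.beq (Nat.add 22 (llen st0_l)) 80) = true := by decide +kernel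

theorem ep0a : T.treePath [] (Nat.shiftLeft 1 0) 1 = true := by decide +kernel

theorem ep0b : T.treePath [] (Nat.shiftLeft 1 0) 1 = true := by decide +kernel

theorem ep0c : band (lall (fun z => Nat.ble z 255) ([] ++ 1 :: [])) (concl F IV 80 0x1a001 (encA ([] ++ 1 :: []) 0)) = true := by decide +kernel

theorem ep0d : band (Rule.ok (2 * 10) EX [] ⟨lapp [] [], [], 0, false⟩) (band (lall (memL L) []) (lall (memL L) [])) = true := by decide +kernel

theorem cov1 : T.cover 1 [(Nat.shiftLeft 1 0)] = true := by decide +kernel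

theorem tl1 : Nat.beq (T.let 1).tt 0 = true := by decide +kernel

theorem ep1a : T.treePath [] (Nat.shiftLeft 1 0) 1 = true := by decide +kernel

theorem ep1b : T.treePath [] (Nat.shiftLeft 1 0) 1 = true := by decide +kernel

theorem ep1c : band (lall (fun z => Nat.ble z 255) ([] ++ 2 :: [])) (concl F IV 80 0x1b801 (encA ([] ++ 2 :: []) 0)) = true := by decide +kernel

theorem ep1d : band (Rule.ok (2 * 10) EX [] ⟨lapp [] [], [], 0, false⟩) (band (lall (memL L) []) (lall (memL L) [])) = true := by decide +kernel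

theorem cov2 : T.cover 2 [(Nat.shiftLeft 1 0)] = true := by decide +kernel

theorem tl2 : Nat.beq (T.let 2).tt 0 = true := by decide +kernel

theorem ep2a : T.treePath [] (Nat.shiftLeft 1 0) 1 = true := by decide +kernel

theorem ep2b : T.treePath [] (Nat.shiftLeft 1 0) 1 = true := by decide +kernel

theorem ep2c : band (lall (fun z => Nat.ble z 255) ([] ++ 3 :: [])) (concl F IV 80 0x1d001 (encA ([] ++ 3 :: []) 0)) = true := by decide +kernel

theorem ep2d : band (Rule.ok (2 * 10) EX [] ⟨lapp [] [], [], 0, false⟩) (band (lall (memL L) []) (lall (memL L) [])) = true := by decide +kernel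

theorem cov3 : T.cover 3 [(Nat.shiftLeft 1 0)] = true := by decide +kernel

theorem tl3 : Nat.beq (T.let 3).tt 0 = true := by decide +kernel

theorem ep3a : T.treePath [] (Nat.shiftLeft 1 0) 1 = true := by decide +kernel

theorem ep3b : T.treePath [] (Nat.shiftLeft 1 0) 1 = true := by decide +kernel

theorem ep3c : band (lall (fun z => Nat.ble z 255) ([] ++ 4 :: [])) (concl F IV 80 0x1e801 (encA ([] ++ 4 :: []) 0)) = true := by decide +kernel

theorem ep3d : band (Rule.ok (2 * 10) EX [] ⟨lapp [] [], [], 0, false⟩) (band (lall (memL L) []) (lall (memL L) [])) = true := by decide +kernel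

theorem cov4 : T.cover 4 [(Nat.shiftLeft 1 0)] = true := by decide +kernel

theorem tl4 : Nat.beq (T.let 4).tt 0 = true := by decide +kernel

theorem ep4a : T.treePath [] (Nat.shiftLeft 1 0) 1 = true := by decide +kernel

theorem ep4b : T.treePath [] (Nat.shiftLeft 1 0) 1 = true := by decide +kernel

theorem ep4c : band (lall (fun z => Nat.ble z 255) ([] ++ 5 :: [])) (concl F IV 80 0x20001 (encA ([] ++ 5 :: []) 0)) = true := by decide +kernel

theorem ep4d : band (Rule.ok (2 * 10) EX [] ⟨lapp [] [], [], 0, false⟩) (band (lall (memL L) []) (lall (memL L) [])) = true := by decide +kernel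

theorem cov5 : T.cover 5 [(Nat.shiftLeft 1 0)] = true := by decide +kernel

theorem tl5 : Nat.beq (T.let 5).tt 0 = true := by decide +kernel

theorem ep5a : T.treePath [] (Nat.shiftLeft 1 0) 1 = true := by decide +kernel

theorem ep5b : T.treePath [] (Nat.shiftLeft 1 0) 1 = true := by decide +kernel

theorem ep5c : band (lall (fun z => Nat.ble z 255) ([] ++ 6 :: [])) (concl F IV 80 0x21801 (encA ([] ++ 6 :: []) 0)) = true := by decide +kernel

theorem ep5d : band (Rule.ok (2 * 10) EX [] ⟨lapp [] [], [], 0, false⟩) (band (lall (memL L) []) (lall (memL L) [])) = true := by decide +kernel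

theorem cov6 : T.cover 6 [(Nat.shiftLeft 1 0)] = true := by decide +kernel

theorem tl6 : Nat.beq (T.let 6).tt 0 = true := by decide +kernel

theorem ep6a : T.treePath [] (Nat.shiftLeft 1 0) 1 = true := by decide +kernel

theorem ep6b : T.treePath [] (Nat.shiftLeft 1 0) 1 = true := by decide +kernel

theorem ep6c : band (lall (fun z => Nat.ble z 255) ([] ++ 7 :: [])) (concl F IV 80 0x23001 (encA ([] ++ 7 :: []) 0)) = true := by decide +kernel

theorem ep6d : band (Rule.ok (2 * 10) EX [] ⟨lapp [] [], [], 0, false⟩) (band (lall (memL L) []) (lall (memL L) [])) = true := by decide +kernel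

theorem cov7 : T.cover 7 [(Nat.shiftLeft 1 0)] = true := by decide +kernel

theorem tl7 : Nat.beq (T.let 7).tt 0 = true := by decide +kernel

theorem ep7a : T.treePath [] (Nat.shiftLeft 1 0) 1 = true := by decide +kernel

theorem ep7b : T.treePath [] (Nat.shiftLeft 1 0) 1 = true := by decide +kernel

theorem ep7c : band (lall (fun z => Nat.ble z 255) ([] ++ 8 :: [])) (concl F IV 80 0x24801 (encA ([] ++ 8 :: []) 0)) = true := by decide +kernel

theorem ep7d : band (Rule.ok (2 * 10) EX [] ⟨lapp [] [], [], 0, false⟩) (band (lall (memL L) []) (lall (memL L) [])) = true := by decide +kernel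

theorem cov8 : T.cover 8 [(Nat.shiftLeft 1 0)] = true := by decide +kernel

theorem tl8 : Nat.beq (T.let 8).tt 0 = true := by decide +kernel

theorem ep8a : T.treePath [] (Nat.shiftLeft 1 0) 1 = true := by decide +kernel

theorem ep8b : T.treePath [] (Nat.shiftLeft 1 0) 1 = true := by decide +kernel

theorem ep8c : band (lall (fun z => Nat.ble z 255) ([] ++ 9 :: [])) (concl F IV 80 0x26001 (encA ([] ++ 9 :: []) 0)) = true := by decide +kernel

theorem ep8d : band (Rule.ok (2 * 10) EX [] ⟨lapp [] [], [], 0, false⟩) (band (lall (memL L) []) (lall (memL L) [])) = true := by decide +kernel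

theorem cov9 : T.cover 9 [(Nat.shiftLeft 1 0)] = true := by decide +kernel

theorem tl9 : Nat.beq (T.let 9).tt 0 = true := by decide +kernel

theorem ep9a : T.treePath [] (Nat.shiftLeft 1 0) 1 = true := by decide +kernel

theorem ep9b : T.treePath [] (Nat.shiftLeft 1 0) 1 = true := by decide +kernel

theorem ep9c : band (lall (fun z => Nat.ble z 255) ([] ++ 10 :: [])) (concl F IV 80 0x27801 (encA ([] ++ 10 :: []) 0)) = true := by decide +kernel

theorem ep9d : band (Rule.ok (2 * 10) EX [] ⟨lapp [] [], [], 0, false⟩) (band (lall (memL L) []) (lall (memL L) [])) = true := by decide +kernel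

theorem cov10 : T.cover 10 [(Nat.shiftLeft 1 0)] = true := by decide +kernel

theorem tl10 : Nat.beq (T.let 10).tt 0 = true := by decide +kernel

end Cfsg.Agent.Spor.Fi23A1
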